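import Groth.Agent.DCohMV.Basic
import Groth.Agent.CohQC.QuasiAffine
import Groth.Agent.DQCoh.PCCalc
import Groth.Agent.DQCoh.AffinePerf
import Groth.Agent.DerPerf.Local
import Groth.Agent.ResDesc.Main

/-!
# `RΓ(Y, -) ∘ Rf_* = RΓ(X, -)` for unbounded complexes

A direct image of a K-injective complex receives only null-homotopic maps from acyclic K-flat complexes; such
complexes compute `RΓ`.
-/

set_option autoImplicit false
set_option backward.isDefEq.respectTransparency false
set_option backward.isDefEq.respectTransparency.types false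
set_option linter.style.haveILetI false

universe u

open CategoryTheory Category Limits AlgebraicGeometry Pretriangulated TopologicalSpace CochainComplex

attribute [local instance] HasDerivedCategory.standard

namespace Groth.Agent.DCohMV

variable {X Y : Scheme.{u}}

/-- the quotient functor to the homotopy category -/
noncomputable abbrev quot (X : Scheme.{u}) : CochainComplex X.Modules ℤ ⥤ HomotopyCategory X.Modules (ComplexShape.up ℤ) :=
  HomotopyCategory.quotient X.Modules (ComplexShape.up ℤ)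

/-- only null-homotopic maps from acyclic K-flat complexes -/
def IsWeakKInj (J : HomotopyCategory X.Modules (ComplexShape.up ℤ)) : Prop :=
  ∀ (T : CochainComplex X.Modules ℤ), DCoh.IsKFlat T → T.Acyclic → ∀ (m : ℤ) (φ : (quot X).obj T ⟶ J⟦m⟧), φ = 0

lemma isWeakKInj_of_isKInjective (I : CochainComplex X.Modules ℤ) [I.IsKInjective] : IsWeakKInj ((quot X).obj I) := by
  intro T _ hT m φ
  let e : ((quot X).obj I)⟦m⟧ ≅ (quot X).obj (I⟦m⟧) := ((quot X).commShiftIso m).symm.app I
  obtain ⟨g, hg⟩ := (quot X).map_surjective (φ ≫ e.hom)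
  have h0 : (quot X).map g = 0 := by
    rw [← (quot X).map_zero]
    exact HomotopyCategory.eq_of_homotopy _ _ (IsKInjective.homotopyZero g hT)
  rw [← cancel_mono e.hom, zero_comp, ← hg, h0]

lemma isWeakKInj_push (f : X ⟶ Y) (I : CochainComplex X.Modules ℤ) [I.IsKInjective] :
    IsWeakKInj ((quot Y).obj (((Scheme.Modules.pushforward f).mapHomologicalComplex (ComplexShape.up ℤ)).obj I)) := by
  intro T hT hTa m φ
  let P := (Scheme.Modules.pushforward f).mapHomologicalComplex (ComplexShape.up ℤ)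
  let a := KInj.mapHomologicalComplexAdj (Scheme.Modules.pullbackPushforwardAdjunction f) (ComplexShape.up ℤ)
  let e : ((quot Y).obj (P.obj I))⟦m⟧ ≅ (quot Y).obj (P.obj (I⟦m⟧)) :=
    ((quot Y).commShiftIso m).symm.app _ ≪≫ (quot Y).mapIso ((P.commShiftIso m).symm.app I)
  obtain ⟨g, hg⟩ := (quot Y).map_surjective (φ ≫ e.hom)
  let g' := (a.homEquiv T (I⟦m⟧)).symm g
  have h1 : (quot Y).map (P.map g') = 0 := by
    rw [← (quot Y).map_zero]
    exact HomotopyCategory.eq_of_homotopy _ _ (((Scheme.Modules.pushforward f).mapHomotopy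
      (IsKInjective.homotopyZero g' (KFlat.acyclic_pullback f hT hTa))).trans (Homotopy.ofEq (P.map_zero _ _)))
  have h0 : (quot Y).map g = 0 := by
    rw [show g = a.unit.app T ≫ P.map g' from ((a.homEquiv T _).apply_symm_apply g).symm.trans (a.homEquiv_unit _ _ _),
      Functor.map_comp, h1, comp_zero]
  rw [← cancel_mono e.hom, zero_comp, ← hg, h0]

lemma IsWeakKInj.cone {A B : CochainComplex X.Modules ℤ} (s : A ⟶ B) (hA : IsWeakKInj ((quot X).obj A))
    (hB : IsWeakKInj ((quot X).obj B)) : IsWeakKInj ((quot X).obj (mappingCone s)) := by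
  intro T hT hTa m φ
  have h := HomotopyCategory.mappingCone_triangleh_distinguished s
  let D := (Triangle.shiftFunctor (HomotopyCategory X.Modules (ComplexShape.up ℤ)) m).obj (mappingCone.triangleh s)
  have hD : D ∈ distinguishedTriangles := Triangle.shift_distinguished _ h m
  let e : D.obj₁⟦(1 : ℤ)⟧ ≅ ((quot X).obj A)⟦m + 1⟧ :=
    ((shiftFunctorAdd (HomotopyCategory X.Modules (ComplexShape.up ℤ)) m 1).app _).symm
  have h3 : φ ≫ D.mor₃ = 0 := by
    rw [← cancel_mono e.hom, zero_comp]
    exact hA T hT hTa (m + 1) _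
  obtain ⟨ψ, hψ⟩ := Triangle.coyoneda_exact₃ D hD φ h3
  rw [hψ, show ψ = 0 from hB T hT hTa m ψ, zero_comp]

/-- maps from K-flat complexes into acyclic weakly K-injective ones vanish up to homotopy -/
lemma eq_zero_of_weak {C P : CochainComplex X.Modules ℤ} (hC : IsWeakKInj ((quot X).obj C)) (hCa : C.Acyclic)
    (hP : DCoh.IsKFlat P) (φ : (quot X).obj P ⟶ (quot X).obj C) : φ = 0 := by
  have hC0 : ∀ (T : CochainComplex X.Modules ℤ), DCoh.IsKFlat T → T.Acyclic →
      ∀ ψ : (quot X).obj T ⟶ (quot X).obj C, ψ = 0 := fun T hT hTa ψ => by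
    have h := hC T hT hTa 0 (ψ ≫ ((shiftFunctorZero (HomotopyCategory X.Modules (ComplexShape.up ℤ)) ℤ).app _).inv)
    rwa [← cancel_mono ((shiftFunctorZero (HomotopyCategory X.Modules (ComplexShape.up ℤ)) ℤ).app
      ((quot X).obj C)).inv, zero_comp]
  obtain ⟨g, rfl⟩ := (quot X).map_surjective φ
  let t := (KFlat.resψ X).app P
  have hres : DCoh.IsKFlat ((KFlat.resF X).obj C) ∧ ((KFlat.resF X).obj C).Acyclic :=
    ⟨KFlat.isKFlat_resF C, fun n => by
      rw [HomologicalComplex.exactAt_iff_isZero_homology]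
      exact ((HomologicalComplex.exactAt_iff_isZero_homology _ _).1 (hCa n)).of_iso
        (asIso (HomologicalComplex.homologyMap ((KFlat.resψ X).app C) n))⟩
  have h1 : (quot X).map t ≫ (quot X).map g = 0 := by
    rw [← Functor.map_comp, show t ≫ g = (KFlat.resF X).map g ≫ (KFlat.resψ X).app C from ((KFlat.resψ X).naturality g).symm,
      Functor.map_comp, hC0 _ hres.1 hres.2 ((quot X).map ((KFlat.resψ X).app C)), comp_zero]
  have h := HomotopyCategory.mappingCone_triangleh_distinguished t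
  obtain ⟨ψ, hψ⟩ := Triangle.yoneda_exact₂ (mappingCone.triangleh t) h ((quot X).map g) h1
  rw [hψ, show ψ = 0 from hC0 _ (KFlat.rflat_mappingCone_sch t (KFlat.isKFlat_resF P) hP)
    (KFlat.mappingCone_acyclic t) ψ, comp_zero]

lemma secHom_comp {F G : X.Modules} (s : Γ(F, ⊤)) (d : F ⟶ G) :
    CohQC.secHom s ≫ d = CohQC.secHom (d.app ⊤ s) := by
  refine Scheme.Modules.hom_ext _ _ fun W => ?_
  ext t
  have h1 : (CohQC.secHom s ≫ d).app W t = d.app W ((CohQC.secHom s).app W t) := rfl
  rw [h1, CohQC.secHom_app s W t, CohQC.secHom_app (d.app ⊤ s) W t, Scheme.Modules.Hom.app_smul]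
  exact congrArg _ (QC.app_res d le_top s).symm

lemma secHom_zero (F : X.Modules) : CohQC.secHom (0 : Γ(F, ⊤)) = 0 := by
  refine Scheme.Modules.hom_ext _ _ fun W => ?_
  ext t
  rw [CohQC.secHom_app]
  simp

lemma isKFlat_single (n : ℤ) :
    DCoh.IsKFlat ((HomologicalComplex.single X.Modules (ComplexShape.up ℤ) n).obj (Coh.structureModule X)) := by
  refine DerPerf.isKFlat_of_isStrictlyPerfect ⟨⟨n, n, fun i hi => ?_⟩, fun i => ?_⟩
  · exact HomologicalComplex.isZero_single_obj_X _ _ _ _ (by omega)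
  · by_cases h : i = n
    · subst h
      exact DQCoh.isFinLocFree_of_iso' (HomologicalComplex.singleObjXSelf _ _ _).symm (ResDesc.isFinLocFree_structureModule X)
    · exact DQCoh.isFinLocFree_of_isZero (HomologicalComplex.isZero_single_obj_X _ _ _ _ h)

theorem acyclic_gamma_of_weak {C : CochainComplex X.Modules ℤ} (hC : IsWeakKInj ((quot X).obj C)) (hCa : C.Acyclic) :
    (((DCoh.gammaAb X).mapHomologicalComplex (ComplexShape.up ℤ)).obj C).Acyclic := by
  intro n
  rw [HomologicalComplex.exactAt_iff' _ (n - 1) n (n + 1) (by simp) (by simp), ShortComplex.ab_exact_iff]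
  intro z hz
  have hz' : CohQC.secHom (F := C.X n) z ≫ C.d n (n + 1) = 0 :=
    (secHom_comp z _).trans ((congrArg CohQC.secHom hz).trans (secHom_zero _))
  let φ : (HomologicalComplex.single X.Modules (ComplexShape.up ℤ) n).obj (Coh.structureModule X) ⟶ C :=
    HomologicalComplex.mkHomFromSingle (CohQC.secHom (F := C.X n) z) (fun j hj => by
      obtain rfl : n + 1 = j := hj
      exact hz')
  have h0 : (quot X).map φ = 0 := eq_zero_of_weak hC hCa (isKFlat_single n) _
  let h := HomotopyCategory.homotopyOfEq φ 0 (by rw [h0, Functor.map_zero])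
  have hn := h.comm n
  rw [dNext_eq h.hom (show (ComplexShape.up ℤ).Rel n (n + 1) by simp),
    prevD_eq h.hom (show (ComplexShape.up ℤ).Rel (n - 1) n by simp), HomologicalComplex.zero_f, add_zero,
    HomologicalComplex.single_obj_d, zero_comp, zero_add, HomologicalComplex.mkHomFromSingle_f] at hn
  rw [← cancel_epi (HomologicalComplex.singleObjXSelf (ComplexShape.up ℤ) n (Coh.structureModule X)).inv,
    Iso.inv_hom_id_assoc, ← assoc] at hn
  let w : Coh.structureModule X ⟶ C.X (n - 1) :=
    (HomologicalComplex.singleObjXSelf (ComplexShape.up ℤ) n (Coh.structureModule X)).inv ≫ h.hom n (n - 1)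
  let one : Γ(Coh.structureModule X, ⊤) := (1 : Γ(X, ⊤))
  refine ⟨w.app ⊤ one, ?_⟩
  have e1 := congrArg (fun ψ => Scheme.Modules.Hom.app ψ ⊤ one) hn
  exact e1.symm.trans ((CohQC.secHom_app_one (F := C.X n) z ⊤).trans (QC.res_self _ _ z))

/-- weakly K-injective complexes compute `RΓ` -/
theorem isIso_gammaUnit_of_weak [DCoh.HasRΓ X] (J : CochainComplex X.Modules ℤ) (hJ : IsWeakKInj ((quot X).obj J)) :
    IsIso ((gammaUnit (X := X)).app ((quot X).obj J)) := by
  obtain ⟨I, s, hI, hs, -, -⟩ := KInj.exists_kInjective J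
  haveI := hI
  haveI := hs
  let G := (DCoh.gammaAb X).mapHomologicalComplex (ComplexShape.up ℤ)
  have hq : QuasiIso (G.map s) := KFlat.quasiIso_of_acyclic_mappingCone _
    (KFlat.acyclic_of_iso (mappingCone.mapHomologicalComplexIso s (DCoh.gammaAb X))
      (acyclic_gamma_of_weak (hJ.cone s (isWeakKInj_of_isKInjective I)) (KFlat.mappingCone_acyclic s)))
  haveI : IsIso ((DCoh.gammaKh X).map ((quot X).map s)) := by
    change IsIso (DerivedCategory.Qh.map ((HomotopyCategory.quotient AddCommGrpCat.{u} (ComplexShape.up ℤ)).map (G.map s)))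
    exact Localization.inverts DerivedCategory.Qh (HomotopyCategory.quasiIso AddCommGrpCat.{u} (ComplexShape.up ℤ)) _
      ((HomotopyCategory.quotient_map_mem_quasiIso_iff _).2 hq)
  haveI : IsIso (DerivedCategory.Qh.map ((quot X).map s)) :=
    Localization.inverts DerivedCategory.Qh (HomotopyCategory.quasiIso X.Modules (ComplexShape.up ℤ)) _
      ((HomotopyCategory.quotient_map_mem_quasiIso_iff _).2 hs)
  haveI := (KInj.isDeforming_Qh DerPush.exists_kInj_sch (DCoh.gammaKh X)).isIso_app
    (HomotopyCategory.quasiIso X.Modules (ComplexShape.up ℤ)) (DCoh.RΓ X) gammaUnit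
    (show KInj.kinjProp X.Modules ((quot X).obj I) from ‹_›)
  have hnat := (gammaUnit (X := X)).naturality ((quot X).map s)
  haveI : IsIso ((DerivedCategory.Qh ⋙ DCoh.RΓ X).map ((quot X).map s)) := by
    change IsIso ((DCoh.RΓ X).map (DerivedCategory.Qh.map ((quot X).map s)))
    infer_instance
  haveI : IsIso ((DCoh.gammaKh X).map ((quot X).map s) ≫ (gammaUnit (X := X)).app ((quot X).obj I)) := inferInstance
  rw [hnat] at this
  exact IsIso.of_isIso_comp_right _ ((DerivedCategory.Qh ⋙ DCoh.RΓ X).map ((quot X).map s))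

variable (f : X ⟶ Y) [DCoh.HasRpush f] [DCoh.HasRΓ X] [DCoh.HasRΓ Y]

/-- `K(Γ_X) = K(f_*) ⋙ K(Γ_Y)` -/
noncomputable def gammaKhComp : DCoh.gammaKh X ≅
    (Scheme.Modules.pushforward f).mapHomotopyCategory (ComplexShape.up ℤ) ⋙ DCoh.gammaKh Y :=
  Functor.isoWhiskerRight (Functor.mapHomotopyCategoryCompIso
    (Iso.refl (Scheme.Modules.pushforward f ⋙ DCoh.gammaAb Y) : Scheme.Modules.pushforward f ⋙ DCoh.gammaAb Y ≅ DCoh.gammaAb X)
    (ComplexShape.up ℤ)).symm DerivedCategory.Qh ≪≫ Functor.associator _ _ _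

/-- the unit of the composite -/
noncomputable def lerayUnit : DCoh.gammaKh X ⟶ DerivedCategory.Qh ⋙ (DCoh.Rpush f ⋙ DCoh.RΓ Y) :=
  (gammaKhComp f).hom ≫ Functor.whiskerLeft _ (gammaUnit (X := Y)) ≫ (Functor.associator _ _ _).inv ≫
    Functor.whiskerRight (DerPush.rpushUnit f) _ ≫ (Functor.associator _ _ _).hom

/-- **Leray**: `RΓ(Y, Rf_* -) ≅ RΓ(X, -)` -/
theorem nonempty_leray : Nonempty (DCoh.Rpush f ⋙ DCoh.RΓ Y ≅ DCoh.RΓ X) := by
  haveI : (DCoh.Rpush f ⋙ DCoh.RΓ Y).IsRightDerivedFunctor (lerayUnit f)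
      (HomotopyCategory.quasiIso X.Modules (ComplexShape.up ℤ)) :=
    (KInj.isDeforming_Qh DerPush.exists_kInj_sch (DCoh.gammaKh X)).isRightDerivedFunctor _ _ (lerayUnit f) fun I hI => by
      haveI : CochainComplex.IsKInjective I.as := hI
      haveI h1 := isIso_gammaUnit_of_weak _ (isWeakKInj_push f I.as)
      haveI h2 := DerPush.isIso_rpushUnit_app f hI
      change IsIso ((gammaKhComp f).hom.app I ≫ (gammaUnit (X := Y)).app _ ≫ 𝟙 _ ≫
        (DCoh.RΓ Y).map ((DerPush.rpushUnit f).app I) ≫ 𝟙 _)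
      refine IsIso.comp_isIso' inferInstance (IsIso.comp_isIso' h1 (IsIso.comp_isIso' inferInstance
        (IsIso.comp_isIso' inferInstance inferInstance)))
  exact ⟨Functor.rightDerivedUnique _ _ (lerayUnit f) (gammaUnit (X := X))
    (HomotopyCategory.quasiIso X.Modules (ComplexShape.up ℤ))⟩

end Groth.Agent.DCohMV
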