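import Groth.Agent.RPushQC.MV
import Groth.Agent.RPushQC.Resolution
import Groth.Agent.DerPush.Basic
import Groth.Agent.DQPush.Restrict
import Mathlib.Algebra.Homology.DerivedCategory.ShortExact

/-!
# Mayer–Vietoris triangles in `D(O_X)` from the split sequence on complexes of injectives
-/

set_option autoImplicit false
set_option backward.isDefEq.respectTransparency false
set_option backward.isDefEq.respectTransparency.types false
set_option linter.style.haveILetI false

universe u v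

open CategoryTheory Category Limits AlgebraicGeometry Pretriangulated TopologicalSpace

attribute [local instance] HasDerivedCategory.standard

namespace Groth.Agent.DCohMV

open Groth.Agent.RPushQC

variable {X : Scheme.{u}}

/-- `ι_* ι^*` on complexes -/
noncomputable abbrev EC (U : X.Opens) : CochainComplex X.Modules ℤ ⥤ CochainComplex X.Modules ℤ :=
  (E U).mapHomologicalComplex (ComplexShape.up ℤ)

/-- the unit `K ⟶ ι_* ι^* K` on complexes -/
noncomputable abbrev ηC (U : X.Opens) (K : CochainComplex X.Modules ℤ) : K ⟶ (EC U).obj K :=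
  (NatTrans.mapHomologicalComplex (Scheme.Modules.restrictAdjunction U.ι).unit (ComplexShape.up ℤ)).app K

/-- the restriction maps on complexes -/
noncomputable abbrev ρC {U U' : X.Opens} (h : U' ≤ U) (K : CochainComplex X.Modules ℤ) : (EC U).obj K ⟶ (EC U').obj K :=
  (NatTrans.mapHomologicalComplex (ρ h) (ComplexShape.up ℤ)).app K

lemma η_ρ {U U' : X.Opens} (h : U' ≤ U) (N : X.Modules) :
    (Scheme.Modules.restrictAdjunction U.ι).unit.app N ≫ (ρ h).app N = (Scheme.Modules.restrictAdjunction U'.ι).unit.app N := by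
  refine Scheme.Modules.hom_ext _ _ fun W => ?_
  ext s
  exact QC.res_res N (e_le h W) (U.ι.image_preimage_le W) s

lemma ηC_ρC {U U' : X.Opens} (h : U' ≤ U) (K : CochainComplex X.Modules ℤ) : ηC U K ≫ ρC h K = ηC U' K := by
  ext n : 1
  exact η_ρ h (K.X n)

variable (U U' : X.Opens) (K : CochainComplex X.Modules ℤ)

/-- the Mayer–Vietoris sequence of a complex -/
noncomputable def mvCx : ShortComplex (CochainComplex X.Modules ℤ) :=
  ShortComplex.mk (biprod.lift (ηC U K) (ηC U' K))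
    (biprod.desc (ρC (inf_le_left : U ⊓ U' ≤ U) K) (-ρC (inf_le_right : U ⊓ U' ≤ U') K)) (by
      rw [biprod.lift_desc, Preadditive.comp_neg, ηC_ρC, ηC_ρC, add_neg_cancel])

variable {U U' K}

theorem mvCx_shortExact (hUU' : U ⊔ U' = ⊤) (hI : ∀ n, Injective (K.X n)) (n : ℤ) :
    ((mvCx U U' K).map (HomologicalComplex.eval _ _ n)).ShortExact := by
  refine shortExact_of_biprod ((mvCx U U' K).map (HomologicalComplex.eval _ _ n))
    ((biprod.inl : (EC U).obj K ⟶ (EC U).obj K ⊞ (EC U').obj K).f n)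
    ((biprod.inr : (EC U').obj K ⟶ (EC U).obj K ⊞ (EC U').obj K).f n)
    ((biprod.fst : (EC U).obj K ⊞ (EC U').obj K ⟶ (EC U).obj K).f n)
    ((biprod.snd : (EC U).obj K ⊞ (EC U').obj K ⟶ (EC U').obj K).f n)
    (congrArg (fun φ => HomologicalComplex.Hom.f φ n) (biprod.total (X := (EC U).obj K) (Y := (EC U').obj K)))
    ((ηC U K).f n) ((ηC U' K).f n)
    ((ρC (inf_le_left : U ⊓ U' ≤ U) K).f n) ((ρC (inf_le_right : U ⊓ U' ≤ U') K).f n)
    (congrArg (fun φ => HomologicalComplex.Hom.f φ n) (biprod.lift_fst (ηC U K) (ηC U' K)))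
    (congrArg (fun φ => HomologicalComplex.Hom.f φ n) (biprod.lift_snd (ηC U K) (ηC U' K)))
    (congrArg (fun φ => HomologicalComplex.Hom.f φ n)
      (biprod.inl_desc (ρC (inf_le_left : U ⊓ U' ≤ U) K) (-ρC (inf_le_right : U ⊓ U' ≤ U') K)))
    (congrArg (fun φ => HomologicalComplex.Hom.f φ n)
      (biprod.inr_desc (ρC (inf_le_left : U ⊓ U' ≤ U) K) (-ρC (inf_le_right : U ⊓ U' ≤ U') K)))
    (fun W s h1 h2 => res_sep (K.X n) (U.ι.image_preimage_le W) (U'.ι.image_preimage_le W)
      (by rw [eimg, eimg, ← inf_sup_right, hUU', top_inf_eq]) s h1 h2)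
    (fun W a b h => glue (K.X n) (U.ι.image_preimage_le W) (U'.ι.image_preimage_le W) (e_le inf_le_left _)
      (e_le inf_le_right _) (by rw [eimg, eimg, ← inf_sup_right, hUU', top_inf_eq])
      (by rw [eimg, eimg, eimg]; exact fun x hx => ⟨⟨hx.1.1, hx.2.1⟩, hx.1.2⟩) a b h)
    (fun W => (haveI := hI n; isFlasque_of_injective (K.X n)) (e_le inf_le_left W))

/-- **Mayer–Vietoris**: every additive functor turns the sequence into a triangle. -/
theorem exists_triangle {B : Type*} [Category B] [Abelian B] [HasDerivedCategory B] (F : X.Modules ⥤ B) [F.Additive]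
    (hUU' : U ⊔ U' = ⊤) (hI : ∀ n, Injective (K.X n)) {A₀ A₁ A₂ A₃ : DerivedCategory B}
    (e₀ : DerivedCategory.Q.obj ((F.mapHomologicalComplex (ComplexShape.up ℤ)).obj K) ≅ A₀)
    (e₁ : DerivedCategory.Q.obj ((F.mapHomologicalComplex (ComplexShape.up ℤ)).obj ((EC U).obj K)) ≅ A₁)
    (e₂ : DerivedCategory.Q.obj ((F.mapHomologicalComplex (ComplexShape.up ℤ)).obj ((EC U').obj K)) ≅ A₂)
    (e₃ : DerivedCategory.Q.obj ((F.mapHomologicalComplex (ComplexShape.up ℤ)).obj ((EC (U ⊓ U')).obj K)) ≅ A₃) :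
    ∃ (a : A₀ ⟶ (A₁ ⊞ A₂)) (b : (A₁ ⊞ A₂) ⟶ A₃) (c : A₃ ⟶ A₀⟦(1 : ℤ)⟧),
      Triangle.mk a b c ∈ distinguishedTriangles := by
  let FC := F.mapHomologicalComplex (ComplexShape.up ℤ)
  let S := (mvCx U U' K).map FC
  have hS : S.ShortExact := HomologicalComplex.shortExact_of_degreewise_shortExact _ fun n => by
    haveI := hI n
    have hsn := mvCx_shortExact (K := K) hUU' hI n
    haveI : Injective ((mvCx U U' K).map (HomologicalComplex.eval _ _ n)).X₁ := hI n
    exact ((hsn.splittingOfInjective).map F).shortExact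
  haveI : PreservesBinaryBiproducts FC := preservesBinaryBiproducts_of_preservesBiproducts FC
  haveI : PreservesBinaryBiproducts (DerivedCategory.Q (C := B)) := preservesBinaryBiproducts_of_preservesBiproducts _
  let m : DerivedCategory.Q.obj S.X₂ ≅ A₁ ⊞ A₂ :=
    DerivedCategory.Q.mapIso (FC.mapBiprod _ _) ≪≫ DerivedCategory.Q.mapBiprod _ _ ≪≫ biprod.mapIso e₁ e₂
  let T := DerivedCategory.triangleOfSES hS
  have hT : T ∈ distinguishedTriangles := DerivedCategory.triangleOfSES_distinguished hS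
  refine ⟨e₀.inv ≫ T.mor₁ ≫ m.hom, m.inv ≫ T.mor₂ ≫ e₃.hom, e₃.inv ≫ T.mor₃ ≫ e₀.hom⟦(1 : ℤ)⟧', ?_⟩
  exact isomorphic_distinguished _ hT _
    (Triangle.isoMk _ _ e₀.symm m.symm e₃.symm
      (by simp only [Triangle.mk_mor₁, assoc, Iso.symm_hom, Iso.hom_inv_id, comp_id])
      (by simp only [Triangle.mk_mor₂, assoc, Iso.symm_hom, Iso.hom_inv_id, comp_id])
      (by simp only [Triangle.mk_mor₃, assoc, Iso.symm_hom, ← Functor.map_comp, Iso.hom_inv_id, CategoryTheory.Functor.map_id, comp_id]))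

/-- `Rf_*` on K-injective complexes -/
noncomputable def rpushRep {Y : Scheme.{u}} (f : X ⟶ Y) [DCoh.HasRpush f] (I : CochainComplex X.Modules ℤ) [I.IsKInjective] :
    DerivedCategory.Q.obj (((Scheme.Modules.pushforward f).mapHomologicalComplex (ComplexShape.up ℤ)).obj I) ≅
      (DCoh.Rpush f).obj (DerivedCategory.Q.obj I) :=
  haveI := DerPush.isIso_rpushUnit_app f (I := (HomotopyCategory.quotient X.Modules (ComplexShape.up ℤ)).obj I) ‹_›
  (DerivedCategory.quotientCompQhIso Y.Modules).symm.app _ ≪≫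
    DerivedCategory.Qh.mapIso (((Scheme.Modules.pushforward f).mapHomotopyCategoryFactors (ComplexShape.up ℤ)).symm.app I) ≪≫
    asIso ((DerPush.rpushUnit f).app ((HomotopyCategory.quotient X.Modules (ComplexShape.up ℤ)).obj I)) ≪≫
    (DCoh.Rpush f).mapIso ((DerivedCategory.quotientCompQhIso X.Modules).app I)

/-- the unit of `RΓ` -/
noncomputable abbrev gammaUnit [DCoh.HasRΓ X] : DCoh.gammaKh X ⟶ DerivedCategory.Qh ⋙ DCoh.RΓ X :=
  (DCoh.gammaKh X).totalRightDerivedUnit DerivedCategory.Qh (HomotopyCategory.quasiIso X.Modules (ComplexShape.up ℤ))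

/-- `RΓ` on K-injective complexes -/
noncomputable def gammaRep [DCoh.HasRΓ X] (I : CochainComplex X.Modules ℤ) [I.IsKInjective] :
    DerivedCategory.Q.obj (((DCoh.gammaAb X).mapHomologicalComplex (ComplexShape.up ℤ)).obj I) ≅
      (DCoh.RΓ X).obj (DerivedCategory.Q.obj I) :=
  haveI := (KInj.isDeforming_Qh DerPush.exists_kInj_sch (DCoh.gammaKh X)).isIso_app
    (HomotopyCategory.quasiIso X.Modules (ComplexShape.up ℤ)) (DCoh.RΓ X) gammaUnit
    (show KInj.kinjProp X.Modules ((HomotopyCategory.quotient X.Modules (ComplexShape.up ℤ)).obj I) from ‹_›)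
  (DerivedCategory.quotientCompQhIso AddCommGrpCat.{u}).symm.app _ ≪≫
    DerivedCategory.Qh.mapIso (((DCoh.gammaAb X).mapHomotopyCategoryFactors (ComplexShape.up ℤ)).symm.app I) ≪≫
    asIso ((gammaUnit (X := X)).app ((HomotopyCategory.quotient X.Modules (ComplexShape.up ℤ)).obj I)) ≪≫
    (DCoh.RΓ X).mapIso ((DerivedCategory.quotientCompQhIso X.Modules).app I)

theorem exists_rep (A : DCoh.D X) : ∃ I : CochainComplex X.Modules ℤ, I.IsKInjective ∧ (∀ n, Injective (I.X n)) ∧
    Nonempty (DerivedCategory.Q.obj I ≅ A) := by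
  obtain ⟨I, s, hI, hs, -, hinj⟩ := KInj.exists_kInjective ((DerivedCategory.Q (C := X.Modules)).objPreimage A)
  haveI := hs
  exact ⟨I, hI, hinj, ⟨(asIso (DerivedCategory.Q.map s)).symm ≪≫ DerivedCategory.Q.objObjPreimageIso A⟩⟩

/-- restriction of a representative -/
noncomputable def restrRep (U : X.Opens) [PreservesFiniteLimits (Scheme.Modules.restrictFunctor U.ι)]
    (I : CochainComplex X.Modules ℤ) {A : DCoh.D X} (e : DerivedCategory.Q.obj I ≅ A) :
    DerivedCategory.Q.obj (((Scheme.Modules.restrictFunctor U.ι).mapHomologicalComplex (ComplexShape.up ℤ)).obj I) ≅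
      (DCoh.restrictD U.ι).obj A :=
  ((Scheme.Modules.restrictFunctor U.ι).mapDerivedCategoryFactors.app I).symm ≪≫ (DCoh.restrictD U.ι).mapIso e

end Groth.Agent.DCohMV
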