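import Groth.Agent.DCohMV.Basic
import Mathlib.CategoryTheory.Adjunction.Mates

/-!
# The Mayer–Vietoris sequence of extensions by zero
-/

set_option autoImplicit false
set_option backward.isDefEq.respectTransparency false
set_option backward.isDefEq.respectTransparency.types false
set_option linter.style.haveILetI false

universe u

open CategoryTheory Category Limits AlgebraicGeometry Pretriangulated TopologicalSpace

attribute [local instance] HasDerivedCategory.standard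

namespace Groth.Agent.DCohMV

open Groth.Agent.RPushQC

section Dual

variable {C : Type*} [Category C] [Abelian C] [EnoughInjectives C]

/-- short exactness is detected by maps to injectives -/
theorem shortExact_of_hom (S : ShortComplex C)
    (hepi : ∀ (I : C) [Injective I] (x : S.X₃ ⟶ I), S.g ≫ x = 0 → x = 0)
    (hex : ∀ (I : C) [Injective I] (y : S.X₂ ⟶ I), S.f ≫ y = 0 → ∃ x, S.g ≫ x = y)
    (hmono : ∀ (I : C) [Injective I] (z : S.X₁ ⟶ I), ∃ y, S.f ≫ y = z) : S.ShortExact := by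
  haveI : Epi S.g := by
    refine Abelian.epi_of_cokernel_π_eq_zero _ ?_
    rw [← cancel_mono (Injective.ι (cokernel S.g)), zero_comp]
    exact hepi _ _ (by rw [← assoc, cokernel.condition, zero_comp])
  haveI : Mono S.f := by
    obtain ⟨y, hy⟩ := hmono _ (Injective.ι S.X₁)
    haveI : Mono (S.f ≫ y) := by rw [hy]; infer_instance
    exact mono_of_mono S.f y
  refine { exact := ?_ }
  rw [S.exact_iff_mono_cokernel_desc]
  obtain ⟨x, hx⟩ := hex _ (cokernel.π S.f ≫ Injective.ι (cokernel S.f)) (by simp)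
  have : cokernel.desc S.f S.g S.zero ≫ x = Injective.ι (cokernel S.f) := by
    rw [← cancel_epi (cokernel.π S.f), cokernel.π_desc_assoc, hx]
  haveI : Mono (cokernel.desc S.f S.g S.zero ≫ x) := by rw [this]; infer_instance
  exact mono_of_mono _ x

/-- short exactness of a sequence with split middle term, detected by maps to injectives -/
theorem shortExact_of_hom_biprod (S : ShortComplex C) {A B : C} (il : A ⟶ S.X₂) (ir : B ⟶ S.X₂)
    (pl : S.X₂ ⟶ A) (pr : S.X₂ ⟶ B) (tot : pl ≫ il + pr ≫ ir = 𝟙 _)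
    (φ₁ : S.X₁ ⟶ A) (φ₂ : S.X₁ ⟶ B) (ψ₁ : A ⟶ S.X₃) (ψ₂ : B ⟶ S.X₃)
    (f₁ : S.f ≫ pl = φ₁) (f₂ : S.f ≫ pr = -φ₂) (g₁ : il ≫ S.g = ψ₁) (g₂ : ir ≫ S.g = ψ₂)
    (hinj : ∀ (I : C) [Injective I] (x : S.X₃ ⟶ I), ψ₁ ≫ x = 0 → ψ₂ ≫ x = 0 → x = 0)
    (hglue : ∀ (I : C) [Injective I] (y : A ⟶ I) (y' : B ⟶ I), φ₁ ≫ y = φ₂ ≫ y' → ∃ x, ψ₁ ≫ x = y ∧ ψ₂ ≫ x = y')
    (hsurj : ∀ (I : C) [Injective I] (z : S.X₁ ⟶ I), ∃ (y : A ⟶ I) (y' : B ⟶ I), φ₁ ≫ y - φ₂ ≫ y' = z) :
    S.ShortExact := by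
  subst g₁ g₂
  refine shortExact_of_hom S (fun I _ x hx => ?_) (fun I _ y hy => ?_) (fun I _ z => ?_)
  · exact hinj I x (by rw [assoc, hx, comp_zero]) (by rw [assoc, hx, comp_zero])
  · have h0 : φ₁ ≫ (il ≫ y) = φ₂ ≫ (ir ≫ y) := by
      rw [← sub_eq_zero, sub_eq_add_neg, ← Preadditive.neg_comp, ← f₁, ← f₂, assoc, assoc, ← Preadditive.comp_add,
        ← assoc pl, ← assoc pr, ← Preadditive.add_comp, tot, id_comp]
      exact hy
    obtain ⟨x, hx₁, hx₂⟩ := hglue I (il ≫ y) (ir ≫ y) h0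
    refine ⟨x, ?_⟩
    rw [← id_comp y, ← id_comp (S.g ≫ x), ← tot]
    simp only [Preadditive.add_comp, assoc] at hx₁ hx₂ ⊢
    rw [hx₁, hx₂]
  · obtain ⟨y, y', h⟩ := hsurj I z
    refine ⟨pl ≫ y + pr ≫ y', ?_⟩
    rw [Preadditive.comp_add, ← assoc, ← assoc, f₁, f₂, Preadditive.neg_comp, ← sub_eq_add_neg]
    exact h

theorem homEquiv_sub {D : Type*} [Category D] [Preadditive D] {L : C ⥤ D} {R : D ⥤ C} (adj : L ⊣ R) [R.Additive]
    {M : C} {I : D} (a b : L.obj M ⟶ I) : adj.homEquiv M I (a - b) = adj.homEquiv M I a - adj.homEquiv M I b := by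
  rw [Adjunction.homEquiv_unit, Adjunction.homEquiv_unit, Adjunction.homEquiv_unit, Functor.map_sub, Preadditive.comp_sub]

theorem homEquiv_zero {D : Type*} [Category D] [Preadditive D] {L : C ⥤ D} {R : D ⥤ C} (adj : L ⊣ R) [R.Additive]
    (M : C) (I : D) : adj.homEquiv M I 0 = 0 := by
  rw [Adjunction.homEquiv_unit, Functor.map_zero, comp_zero]

theorem homEquiv_conj {D : Type*} [Category D] {L₁ L₂ : C ⥤ D} {R₁ R₂ : D ⥤ C} (adj₁ : L₁ ⊣ R₁) (adj₂ : L₂ ⊣ R₂)
    (τ : R₁ ⟶ R₂) (M : C) (I : D) (x : L₁.obj M ⟶ I) :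
    adj₂.homEquiv M I (((conjugateEquiv adj₁ adj₂).symm τ).app M ≫ x) = adj₁.homEquiv M I x ≫ τ.app I := by
  have h := unit_conjugateEquiv adj₁ adj₂ ((conjugateEquiv adj₁ adj₂).symm τ) M
  rw [Equiv.apply_symm_apply] at h
  rw [Adjunction.homEquiv_unit, Adjunction.homEquiv_unit, Functor.map_comp, ← assoc, ← h, assoc, assoc]
  exact congrArg (adj₁.unit.app M ≫ ·) (τ.naturality x).symm

end Dual

variable {X : Scheme.{u}}

/-- `j_! j^*` -/
noncomputable abbrev Lz (U : X.Opens) : X.Modules ⥤ X.Modules :=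
  Scheme.Modules.restrictFunctor U.ι ⋙ CxOX.extZero U.ι

/-- `j_! j^* ⊣ j_* j^*` -/
noncomputable def adjZ (U : X.Opens) : Lz U ⊣ E U :=
  (Scheme.Modules.restrictAdjunction U.ι).comp (CxOX.extZeroAdj U.ι)

/-- `j_! j^* ⟶ 𝟭` -/
noncomputable def εZ (U : X.Opens) : Lz U ⟶ 𝟭 X.Modules :=
  (conjugateEquiv (Adjunction.id (C := X.Modules)) (adjZ U)).symm (Scheme.Modules.restrictAdjunction U.ι).unit

/-- `j'_! j'^* ⟶ j_! j^*` -/
noncomputable def σZ {U U' : X.Opens} (h : U' ≤ U) : Lz U' ⟶ Lz U :=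
  (conjugateEquiv (adjZ U) (adjZ U')).symm (ρ h)

lemma transpose_εZ (U : X.Opens) (M I : X.Modules) (x : M ⟶ I) :
    (adjZ U).homEquiv M I ((εZ U).app M ≫ x) = x ≫ (Scheme.Modules.restrictAdjunction U.ι).unit.app I := by
  refine (homEquiv_conj (Adjunction.id (C := X.Modules)) (adjZ U) _ M I x).trans ?_
  rw [Adjunction.homEquiv_unit]
  simp [Adjunction.id]

lemma transpose_σZ {U U' : X.Opens} (h : U' ≤ U) (M I : X.Modules) (x : (Lz U).obj M ⟶ I) :
    (adjZ U').homEquiv M I ((σZ h).app M ≫ x) = (adjZ U).homEquiv M I x ≫ (ρ h).app I :=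
  homEquiv_conj (adjZ U) (adjZ U') _ M I x

lemma σZ_εZ {U U' : X.Opens} (h : U' ≤ U) : σZ h ≫ εZ U = εZ U' := by
  ext M : 2
  apply ((adjZ U').homEquiv M M).injective
  have h1 : (σZ h ≫ εZ U).app M = (σZ h).app M ≫ ((εZ U).app M ≫ 𝟙 M) :=
    congrArg ((σZ h).app M ≫ ·) (comp_id ((εZ U).app M)).symm
  have h2 : (εZ U').app M = (εZ U').app M ≫ 𝟙 M := (comp_id _).symm
  rw [h1, h2, transpose_εZ, transpose_σZ, transpose_εZ, assoc]
  exact congrArg (𝟙 M ≫ ·) (η_ρ h M)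

/-- `j_! j^* K ⟶ K` -/
noncomputable def εC (U : X.Opens) (K : CochainComplex X.Modules ℤ) :
    ((Lz U).mapHomologicalComplex (ComplexShape.up ℤ)).obj K ⟶ K where
  f n := (εZ U).app (K.X n)
  comm' i j _ := ((εZ U).naturality (K.d i j)).symm

variable (U U' : X.Opens)

/-- the extension by zero sequence of a complex -/
noncomputable def zCx (K : CochainComplex X.Modules ℤ) : ShortComplex (CochainComplex X.Modules ℤ) :=
  ShortComplex.mk
    (biprod.lift ((NatTrans.mapHomologicalComplex (σZ (inf_le_left : U ⊓ U' ≤ U)) (ComplexShape.up ℤ)).app K)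
      (-((NatTrans.mapHomologicalComplex (σZ (inf_le_right : U ⊓ U' ≤ U')) (ComplexShape.up ℤ)).app K)))
    (biprod.desc (εC U K) (εC U' K)) (by
      ext n : 1
      simp only [biprod.lift_desc, Preadditive.neg_comp]
      have h1 := congr_app (σZ_εZ (inf_le_left : U ⊓ U' ≤ U)) (K.X n)
      have h2 := congr_app (σZ_εZ (inf_le_right : U ⊓ U' ≤ U')) (K.X n)
      simp only [NatTrans.comp_app] at h1 h2
      show (σZ (inf_le_left : U ⊓ U' ≤ U)).app (K.X n) ≫ (εZ U).app (K.X n) +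
        -((σZ (inf_le_right : U ⊓ U' ≤ U')).app (K.X n) ≫ (εZ U').app (K.X n)) = 0
      rw [h1, h2, add_neg_cancel])

variable {U U'}

theorem zCx_shortExact (hUU' : U ⊔ U' = ⊤) (K : CochainComplex X.Modules ℤ) (n : ℤ) :
    ((zCx U U' K).map (HomologicalComplex.eval _ _ n)).ShortExact := by
  haveI := DerPush.isGrothendieckAbelian_modules X
  let A := ((Lz U).mapHomologicalComplex (ComplexShape.up ℤ)).obj K
  let A' := ((Lz U').mapHomologicalComplex (ComplexShape.up ℤ)).obj K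
  let il : A.X n ⟶ (A ⊞ A').X n := (biprod.inl : A ⟶ A ⊞ A').f n
  let ir : A'.X n ⟶ (A ⊞ A').X n := (biprod.inr : A' ⟶ A ⊞ A').f n
  let pl : (A ⊞ A').X n ⟶ A.X n := (biprod.fst : A ⊞ A' ⟶ A).f n
  let pr : (A ⊞ A').X n ⟶ A'.X n := (biprod.snd : A ⊞ A' ⟶ A').f n
  let S := (zCx U U' K).map (HomologicalComplex.eval _ _ n)
  have tot : pl ≫ il + pr ≫ ir = 𝟙 _ := congrArg (fun φ => HomologicalComplex.Hom.f φ n) (biprod.total (X := A) (Y := A'))
  have f₁ : S.f ≫ pl = (σZ (inf_le_left : U ⊓ U' ≤ U)).app (K.X n) :=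
    congrArg (fun φ => HomologicalComplex.Hom.f φ n) (biprod.lift_fst
      ((NatTrans.mapHomologicalComplex (σZ (inf_le_left : U ⊓ U' ≤ U)) (ComplexShape.up ℤ)).app K)
      (-((NatTrans.mapHomologicalComplex (σZ (inf_le_right : U ⊓ U' ≤ U')) (ComplexShape.up ℤ)).app K)))
  have f₂ : S.f ≫ pr = -(σZ (inf_le_right : U ⊓ U' ≤ U')).app (K.X n) :=
    congrArg (fun φ => HomologicalComplex.Hom.f φ n) (biprod.lift_snd
      ((NatTrans.mapHomologicalComplex (σZ (inf_le_left : U ⊓ U' ≤ U)) (ComplexShape.up ℤ)).app K)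
      (-((NatTrans.mapHomologicalComplex (σZ (inf_le_right : U ⊓ U' ≤ U')) (ComplexShape.up ℤ)).app K)))
  have g₁ : il ≫ S.g = (εZ U).app (K.X n) :=
    congrArg (fun φ => HomologicalComplex.Hom.f φ n) (biprod.inl_desc (εC U K) (εC U' K))
  have g₂ : ir ≫ S.g = (εZ U').app (K.X n) :=
    congrArg (fun φ => HomologicalComplex.Hom.f φ n) (biprod.inr_desc (εC U K) (εC U' K))
  let M := K.X n
  -- the split sequence of an injective
  have key : ∀ (I : X.Modules) [Injective I],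
      (∀ x : M ⟶ I, x ≫ (Scheme.Modules.restrictAdjunction U.ι).unit.app I = 0 →
        x ≫ (Scheme.Modules.restrictAdjunction U'.ι).unit.app I = 0 → x = 0) ∧
      (∀ (t : M ⟶ (E U).obj I) (t' : M ⟶ (E U').obj I),
        t ≫ (ρ (inf_le_left : U ⊓ U' ≤ U)).app I = t' ≫ (ρ (inf_le_right : U ⊓ U' ≤ U')).app I →
        ∃ x : M ⟶ I, x ≫ (Scheme.Modules.restrictAdjunction U.ι).unit.app I = t ∧
          x ≫ (Scheme.Modules.restrictAdjunction U'.ι).unit.app I = t') ∧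
      (∀ t : M ⟶ (E (U ⊓ U')).obj I, ∃ (a : M ⟶ (E U).obj I) (b : M ⟶ (E U').obj I),
        a ≫ (ρ (inf_le_left : U ⊓ U' ≤ U)).app I - b ≫ (ρ (inf_le_right : U ⊓ U' ≤ U')).app I = t) := by
    intro I _
    let ηU := (Scheme.Modules.restrictAdjunction U.ι).unit.app I
    let ηU' := (Scheme.Modules.restrictAdjunction U'.ι).unit.app I
    let S₀ : ShortComplex X.Modules := ShortComplex.mk (biprod.lift ηU ηU')
      (biprod.desc ((ρ (inf_le_left : U ⊓ U' ≤ U)).app I) (-(ρ (inf_le_right : U ⊓ U' ≤ U')).app I))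
      (by rw [biprod.lift_desc, Preadditive.comp_neg, η_ρ, η_ρ, add_neg_cancel])
    have hS₀ : S₀.ShortExact := shortExact_of_biprod S₀ biprod.inl biprod.inr biprod.fst biprod.snd biprod.total
      ηU ηU' ((ρ (inf_le_left : U ⊓ U' ≤ U)).app I) ((ρ (inf_le_right : U ⊓ U' ≤ U')).app I)
      (biprod.lift_fst _ _) (biprod.lift_snd _ _) (biprod.inl_desc _ _) (biprod.inr_desc _ _)
      (fun W s h1 h2 => res_sep I (U.ι.image_preimage_le W) (U'.ι.image_preimage_le W)
        (by rw [eimg, eimg, ← inf_sup_right, hUU', top_inf_eq]) s h1 h2)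
      (fun W a b h => glue I (U.ι.image_preimage_le W) (U'.ι.image_preimage_le W) (e_le inf_le_left _)
        (e_le inf_le_right _) (by rw [eimg, eimg, ← inf_sup_right, hUU', top_inf_eq])
        (by rw [eimg, eimg, eimg]; exact fun x hx => ⟨⟨hx.1.1, hx.2.1⟩, hx.1.2⟩) a b h)
      (fun W => isFlasque_of_injective I (e_le inf_le_left W))
    haveI : Injective S₀.X₁ := ‹Injective I›
    let sp := hS₀.splittingOfInjective
    haveI := hS₀.mono_f
    refine ⟨fun x h1 h2 => ?_, fun t t' h => ?_, fun t => ?_⟩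
    · rw [← cancel_mono S₀.f, zero_comp]
      exact biprod.hom_ext _ _ (by simpa [S₀] using h1) (by simpa [S₀] using h2)
    · have h0 : biprod.lift t t' ≫ S₀.g = 0 := by simp [S₀, h]
      refine ⟨hS₀.exact.lift (biprod.lift t t') h0, ?_, ?_⟩
      · exact ((congrArg (_ ≫ ·) (biprod.lift_fst ηU ηU').symm).trans (assoc _ _ _).symm).trans
          ((congrArg (· ≫ biprod.fst) (hS₀.exact.lift_f (biprod.lift t t') h0)).trans (biprod.lift_fst _ _))
      · exact ((congrArg (_ ≫ ·) (biprod.lift_snd ηU ηU').symm).trans (assoc _ _ _).symm).trans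
          ((congrArg (· ≫ biprod.snd) (hS₀.exact.lift_f (biprod.lift t t') h0)).trans (biprod.lift_snd _ _))
    · refine ⟨t ≫ sp.s ≫ biprod.fst, t ≫ sp.s ≫ biprod.snd, ?_⟩
      have hs : sp.s ≫ S₀.g = 𝟙 _ := sp.s_g
      calc _ = t ≫ sp.s ≫ S₀.g := by
            simp only [S₀, assoc, biprod.desc_eq, Preadditive.comp_add, Preadditive.comp_neg, sub_eq_add_neg]
        _ = t := by rw [hs]; exact comp_id t
  refine shortExact_of_hom_biprod S il ir pl pr tot _ _ _ _ f₁ f₂ g₁ g₂ (fun I _ x h1 h2 => ?_)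
    (fun I _ y y' h => ?_) (fun I _ z => ?_)
  · refine (key I).1 x ?_ ?_
    · exact (transpose_εZ U M I x).symm.trans ((congrArg _ h1).trans (homEquiv_zero (adjZ U) M I))
    · exact (transpose_εZ U' M I x).symm.trans ((congrArg _ h2).trans (homEquiv_zero (adjZ U') M I))
  · obtain ⟨x, hx1, hx2⟩ := (key I).2.1 ((adjZ U).homEquiv M I y) ((adjZ U').homEquiv M I y')
      ((transpose_σZ _ M I y).symm.trans ((congrArg _ h).trans (transpose_σZ _ M I y')))
    exact ⟨x, ((adjZ U).homEquiv M I).injective ((transpose_εZ U M I x).trans hx1),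
      ((adjZ U').homEquiv M I).injective ((transpose_εZ U' M I x).trans hx2)⟩
  · obtain ⟨a, b, hab⟩ := (key I).2.2 ((adjZ (U ⊓ U')).homEquiv M I z)
    refine ⟨((adjZ U).homEquiv M I).symm a, ((adjZ U').homEquiv M I).symm b, ?_⟩
    apply ((adjZ (U ⊓ U')).homEquiv M I).injective
    refine Eq.trans ?_ hab
    refine (homEquiv_sub (adjZ (U ⊓ U')) _ _).trans (congrArg₂ (· - ·) ?_ ?_)
    · exact (transpose_σZ (inf_le_left : U ⊓ U' ≤ U) M I _).trans
        (congrArg (· ≫ _) (Equiv.apply_symm_apply ((adjZ U).homEquiv M I) a))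
    · exact (transpose_σZ (inf_le_right : U ⊓ U' ≤ U') M I _).trans
        (congrArg (· ≫ _) (Equiv.apply_symm_apply ((adjZ U').homEquiv M I) b))

/-- restriction followed by extension by zero on representatives -/
noncomputable def zRep (U : X.Opens) [PreservesFiniteLimits (CxOX.extZero U.ι)] (K : CochainComplex X.Modules ℤ)
    {A : DCoh.D X} (e : DerivedCategory.Q.obj K ≅ A) :
    DerivedCategory.Q.obj (((Lz U).mapHomologicalComplex (ComplexShape.up ℤ)).obj K) ≅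
      (CxOX.extZeroD U.ι).obj ((DCoh.restrictD U.ι).obj A) :=
  ((CxOX.extZero U.ι).mapDerivedCategoryFactors.app
      (((Scheme.Modules.restrictFunctor U.ι).mapHomologicalComplex (ComplexShape.up ℤ)).obj K)).symm ≪≫
    (CxOX.extZeroD U.ι).mapIso (restrRep U K e)

theorem exists_triangle_extZero (hUU' : U ⊔ U' = ⊤) [PreservesFiniteLimits (CxOX.extZero U.ι)]
    [PreservesFiniteLimits (CxOX.extZero U'.ι)] [PreservesFiniteLimits (CxOX.extZero (U ⊓ U').ι)] (A : DCoh.D X) :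
    ∃ (a : (CxOX.extZeroD (U ⊓ U').ι).obj ((DCoh.restrictD (U ⊓ U').ι).obj A) ⟶
        ((CxOX.extZeroD U.ι).obj ((DCoh.restrictD U.ι).obj A) ⊞ (CxOX.extZeroD U'.ι).obj ((DCoh.restrictD U'.ι).obj A)))
      (b : ((CxOX.extZeroD U.ι).obj ((DCoh.restrictD U.ι).obj A) ⊞
        (CxOX.extZeroD U'.ι).obj ((DCoh.restrictD U'.ι).obj A)) ⟶ A)
      (c : A ⟶ ((CxOX.extZeroD (U ⊓ U').ι).obj ((DCoh.restrictD (U ⊓ U').ι).obj A))⟦(1 : ℤ)⟧),
      Triangle.mk a b c ∈ distinguishedTriangles := by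
  let K := (DerivedCategory.Q (C := X.Modules)).objPreimage A
  let e : DerivedCategory.Q.obj K ≅ A := DerivedCategory.Q.objObjPreimageIso A
  have hS : (zCx U U' K).ShortExact :=
    HomologicalComplex.shortExact_of_degreewise_shortExact _ fun n => zCx_shortExact hUU' K n
  haveI : PreservesBinaryBiproducts (DerivedCategory.Q (C := X.Modules)) :=
    preservesBinaryBiproducts_of_preservesBiproducts _
  let m : DerivedCategory.Q.obj (zCx U U' K).X₂ ≅
      ((CxOX.extZeroD U.ι).obj ((DCoh.restrictD U.ι).obj A) ⊞ (CxOX.extZeroD U'.ι).obj ((DCoh.restrictD U'.ι).obj A)) :=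
    DerivedCategory.Q.mapBiprod _ _ ≪≫ biprod.mapIso (zRep U K e) (zRep U' K e)
  let T := DerivedCategory.triangleOfSES hS
  let e₀ := zRep (U ⊓ U') K e
  refine ⟨e₀.inv ≫ T.mor₁ ≫ m.hom, m.inv ≫ T.mor₂ ≫ e.hom, e.inv ≫ T.mor₃ ≫ e₀.hom⟦(1 : ℤ)⟧', ?_⟩
  exact isomorphic_distinguished _ (DerivedCategory.triangleOfSES_distinguished hS) _
    (Triangle.isoMk _ _ e₀.symm m.symm e.symm
      (by simp only [Triangle.mk_mor₁, assoc, Iso.symm_hom, Iso.hom_inv_id, comp_id]; rfl)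
      (by simp only [Triangle.mk_mor₂, assoc, Iso.symm_hom, Iso.hom_inv_id, comp_id]; rfl)
      (by simp only [Triangle.mk_mor₃, assoc, Iso.symm_hom, ← Functor.map_comp, Iso.hom_inv_id, CategoryTheory.Functor.map_id, comp_id]; rfl))

end Groth.Agent.DCohMV
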